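import Cfsg.Agent.Coprime.Basic
import Cfsg.Agent.Core.Solvable

/-!
Lifting an element of prime order with non-solvable centraliser through a minimal preimage.
-/

set_option autoImplicit false
set_option linter.style.haveILetI false

open Subgroup

namespace Cfsg.Agent.AltCent

variable {X : Type*} [Group X]

theorem commutator_le_centralizer {K : Subgroup X} {x : X}
    (hc : ∀ k ∈ K, x⁻¹ * k⁻¹ * x * k ∈ center X) : ⁅K, K⁆ ≤ centralizer ({x} : Set X) := by
  rw [Subgroup.commutator_le]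
  intro a ha b hb
  rw [mem_centralizer_iff]
  intro y hy
  rw [Set.mem_singleton_iff] at hy
  rw [hy]
  let c : K →* center X :=
    { toFun := fun k => ⟨x⁻¹ * (k : X)⁻¹ * x * k, hc k k.2⟩
      map_one' := Subtype.ext (by simp)
      map_mul' := fun k l => Subtype.ext (by
        show x⁻¹ * ((k : X) * l)⁻¹ * x * (k * l) = x⁻¹ * (k : X)⁻¹ * x * k * (x⁻¹ * (l : X)⁻¹ * x * l)
        have h := Subgroup.mem_center_iff.1 (hc k k.2) (x⁻¹ * (l : X)⁻¹ * x)
        calc _ = x⁻¹ * (l : X)⁻¹ * x * (x⁻¹ * (k : X)⁻¹ * x * k) * l := by group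
          _ = x⁻¹ * (k : X)⁻¹ * x * k * (x⁻¹ * (l : X)⁻¹ * x) * l := by rw [h]
          _ = _ := by group) }
  have hz : c (⟨a, ha⟩ * ⟨b, hb⟩ * ⟨a, ha⟩⁻¹ * ⟨b, hb⟩⁻¹) = 1 := by
    simp only [map_mul, map_inv]
    rw [show c ⟨a, ha⟩ * c ⟨b, hb⟩ = c ⟨b, hb⟩ * c ⟨a, ha⟩ from
      Subtype.ext (Subgroup.mem_center_iff.1 (c ⟨b, hb⟩).2 _), mul_inv_cancel_right, mul_inv_cancel]
  have h' : x⁻¹ * (a * b * a⁻¹ * b⁻¹)⁻¹ * x * (a * b * a⁻¹ * b⁻¹) = 1 := congrArg Subtype.val hz
  rw [commutatorElement_def]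
  generalize a * b * a⁻¹ * b⁻¹ = g at h'
  calc x * g = g * x * (x⁻¹ * g⁻¹ * x * g) := by group
    _ = g * x := by rw [h', mul_one]

theorem not_isSolvable_centralizer {K : Subgroup X} {x : X}
    (hc : ∀ k ∈ K, x⁻¹ * k⁻¹ * x * k ∈ center X) (hns : ¬ Group.IsSolvable K) :
    ¬ Group.IsSolvable (centralizer ({x} : Set X)) := by
  intro hs
  haveI := hs
  apply hns
  have hle : (commutator K).map K.subtype ≤ centralizer ({x} : Set X) := by
    rw [Subgroup.map_subtype_commutator]
    exact commutator_le_centralizer hc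
  haveI : Group.IsSolvable (commutator K) := by
    let f : commutator K →* centralizer ({x} : Set X) :=
      (K.subtype.comp (commutator K).subtype).codRestrict _ fun k => hle ⟨k.1, k.2, rfl⟩
    refine Group.isSolvable_of_isSolvable_injective (f := f) ?_
    intro a b h
    exact Subtype.ext (Subtype.ext (by simpa [f] using congrArg Subtype.val h))
  exact Group.isSolvable_of_ker_le_range (commutator K).subtype (Abelianization.of (G := K))
    (by rw [Abelianization.ker_of, Subgroup.range_subtype])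

theorem not_isSolvable_of_le_map {A : Type*} [Group A] (f : X →* A) {K : Subgroup X} {H : Subgroup A}
    (hle : H ≤ K.map f) (hns : ¬ Group.IsSolvable H) : ¬ Group.IsSolvable K := by
  intro hs
  haveI := hs
  haveI : Group.IsSolvable (K.map f) := by
    let g : K →* K.map f := (f.comp K.subtype).codRestrict _ fun k => mem_map_of_mem f k.2
    refine Group.isSolvable_of_surjective (f := g) ?_
    rintro ⟨_, k, hk, rfl⟩
    exact ⟨⟨k, hk⟩, rfl⟩
  exact hns (Group.isSolvable_of_isSolvable_injective (f := inclusion hle) (inclusion_injective hle))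

/-- A minimal preimage of a perfect group. -/
theorem kernel_nilpotent [Finite X] {A : Type*} [Group A] {f : X →* A} (hf : Function.Surjective f)
    (hmin : ∀ M : Subgroup X, M.map f = ⊤ → M = ⊤) : Group.IsNilpotent f.ker := by
  have hle : f.ker ≤ frattini X := by
    rw [frattini, Order.radical]
    refine le_iInf₂ fun M hM => ?_
    by_contra h
    have hsup : M ⊔ f.ker = ⊤ := hM.2 _ (lt_of_le_of_ne le_sup_left fun e => h (e ▸ le_sup_right))
    apply hM.1
    apply hmin
    have := congrArg (Subgroup.map f) hsup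
    rw [Subgroup.map_sup, ((Subgroup.map_eq_bot_iff f.ker).2 le_rfl : f.ker.map f = ⊥), sup_bot_eq, ← MonoidHom.range_eq_map,
      MonoidHom.range_eq_top.2 hf] at this
    exact this
  haveI := frattini_nilpotent (G := X)
  exact Group.nilpotent_of_mulEquiv (Subgroup.subgroupOfEquivOfLe hle)


/-- What makes a section problematic: `σ` has order `p` and commutes with a non-solvable subgroup. -/
structure Seed (A : Type*) [Group A] (p : ℕ) where
  σ : A
  H : Subgroup A
  ord : σ ^ p = 1
  ne : σ ≠ 1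
  comm : ∀ h ∈ H, h * σ = σ * h
  nsH : ¬ Group.IsSolvable H

/-- A non-trivial elementary abelian normal subgroup of `B` on which `q`'s kernel acts trivially yields this:
every such action has a non-trivial vector fixed by a non-solvable subgroup. -/
def HasFixed (A : Type*) [Group A] (p : ℕ) (E : Type*) [Group E] : Prop :=
  ∀ act : A →* MulAut E, (∀ a b : E, a * b = b * a) → (∀ e : E, e ^ p = 1) → (∃ e : E, e ≠ 1) →
    ∃ (H : Subgroup A) (e : E), ¬ Group.IsSolvable H ∧ e ≠ 1 ∧ ∀ h ∈ H, act h e = e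

/-- The situation at the Sylow subgroup of the preimage of `σ`. -/
theorem exists_normalizer [Finite X] {A : Type*} [Group A] {p : ℕ} [Fact p.Prime] {f : X →* A}
    (hf : Function.Surjective f) (D : Seed A p) :
    ∃ (S N : Subgroup X) (s : X), IsPGroup p S ∧ s ∈ S ∧ f s = D.σ ∧ S ≤ N ∧
      N ≤ normalizer (S : Set X) ∧ N ≤ (D.H ⊔ zpowers D.σ).comap f ∧
      D.H ⊔ zpowers D.σ ≤ N.map f ∧ (∀ g ∈ S, f g ∈ zpowers D.σ) ∧
      Nat.Coprime p (S.relIndex ((zpowers D.σ).comap f)) := by
  classical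
  obtain ⟨P⟩ := (inferInstance : Nonempty (Sylow p ((zpowers D.σ).comap f)))
  let T : Subgroup X := (zpowers D.σ).comap f
  let L : Subgroup X := (D.H ⊔ zpowers D.σ).comap f
  let S : Subgroup X := P.1.map T.subtype
  have hTL : T ≤ L := comap_mono le_sup_right
  have hLT : L ≤ normalizer (T : Set X) := by
    have : D.H ⊔ zpowers D.σ ≤ normalizer (zpowers D.σ : Set A) := by
      refine sup_le (fun h hh => ?_) le_normalizer
      rw [mem_normalizer_iff]
      intro n
      have hc : ∀ z ∈ zpowers D.σ, h * z * h⁻¹ = z := by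
        intro z hz
        obtain ⟨k, rfl⟩ := mem_zpowers_iff.1 hz
        have : Commute h (D.σ ^ k) := Commute.zpow_right (D.comm h hh) k
        rw [this.eq, mul_inv_cancel_right]
      refine ⟨fun hn => by rw [hc n hn]; exact hn, fun hn => ?_⟩
      have e := hc _ hn
      have : h * (h * n * h⁻¹) * h⁻¹ = h * (h * n * h⁻¹) * h⁻¹ := rfl
      have e2 : h * n * h⁻¹ = n := by
        have := congrArg (fun z => h⁻¹ * z * h) e
        simpa [mul_assoc] using this
      rwa [e2] at hn
    intro x hx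
    have hx' := mem_normalizer_iff.1 (this hx)
    rw [mem_normalizer_iff]
    intro n
    simp only [T, mem_comap, map_mul, map_inv]
    exact hx' (f n)
  haveI : (T.subgroupOf L).Normal := normal_subgroupOf_of_le_normalizer hLT
  -- the image of `S` is the group of `σ`
  have hfS : S.map f = zpowers D.σ := by
    let g : T →* zpowers D.σ := (f.comp T.subtype).codRestrict _ fun t => t.2
    have hg : Function.Surjective g := by
      rintro ⟨a, ha⟩
      obtain ⟨x, rfl⟩ := hf a
      exact ⟨⟨x, ha⟩, rfl⟩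
    have hZ : IsPGroup p (zpowers D.σ) := by
      refine IsPGroup.of_card (n := 1) ?_
      rw [Nat.card_zpowers, pow_one, orderOf_eq_prime D.ord D.ne]
    have htop : (P.mapSurjective hg).1 = ⊤ :=
      ((P.mapSurjective hg).is_maximal' (IsPGroup.to_subgroup hZ ⊤) le_top).symm
    refine le_antisymm ?_ fun a ha => ?_
    · rintro _ ⟨_, ⟨t, -, rfl⟩, rfl⟩
      exact t.2
    · have : (⟨a, ha⟩ : zpowers D.σ) ∈ (P.mapSurjective hg).1 := by rw [htop]; trivial
      obtain ⟨t, ht, e⟩ := this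
      exact ⟨t.1, ⟨t, ht, rfl⟩, congrArg Subtype.val e⟩
  obtain ⟨s, hsS, hs⟩ := (show D.σ ∈ S.map f by rw [hfS]; exact mem_zpowers _)
  have hSL : S ≤ L := (Subgroup.map_subtype_le _).trans hTL
  refine ⟨S, normalizer (S : Set X) ⊓ L, s, P.2.map T.subtype, hsS, hs,
    le_inf le_normalizer hSL, inf_le_left, inf_le_right, ?_, ?_, ?_⟩
  · intro a ha
    obtain ⟨x, rfl⟩ := hf a
    have hxL : x ∈ L := ha
    let P' : Sylow p (T.subgroupOf L) :=
      P.mapSurjective (f := ((subgroupOfEquivOfLe hTL).symm : T →* T.subgroupOf L))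
        (subgroupOfEquivOfLe hTL).symm.surjective
    have hP' : (P'.1.map (T.subgroupOf L).subtype).map L.subtype = S := by
      show ((P.1.map _).map _).map _ = P.1.map T.subtype
      rw [Subgroup.map_map, Subgroup.map_map]
      rfl
    obtain ⟨Q, htop, hQ⟩ : ∃ Q : Subgroup L, normalizer (Q : Set L) ⊔ T.subgroupOf L = ⊤ ∧
        Q.map L.subtype = S :=
      ⟨_, Sylow.normalizer_sup_eq_top P', hP'⟩
    clear hP'
    have hx : (⟨x, hxL⟩ : L) ∈ normalizer (Q : Set L) ⊔ T.subgroupOf L := by rw [htop]; trivial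
    obtain ⟨n, hn, t, ht, e⟩ := Subgroup.mem_sup_of_normal_right.1 hx
    have hn' : (n : X) ∈ normalizer (S : Set X) ⊓ L := by
      refine ⟨?_, n.2⟩
      rw [← hQ]
      exact Subgroup.le_normalizer_map L.subtype (mem_map_of_mem L.subtype hn)
    have e' : f x = f n * f t := by rw [← map_mul]; exact congrArg (fun z : L => f z) e.symm
    rw [e']
    refine mul_mem (mem_map_of_mem f hn') ?_
    have : f (t : X) ∈ S.map f := by rw [hfS]; exact ht
    exact map_mono (le_inf le_normalizer hSL) this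
  · intro g hg
    rw [← hfS]; exact mem_map_of_mem f hg
  · have h := P.not_dvd_index
    show Nat.Coprime p ((P.1.map T.subtype).subgroupOf T).index
    rw [show (P.1.map T.subtype).subgroupOf T = P.1 from
      Subgroup.comap_map_eq_self_of_injective T.subtype_injective P.1]
    exact (Nat.Prime.coprime_iff_not_dvd Fact.out).2 h


theorem orderOf_eq_pow {p : ℕ} [Fact p.Prime] {S : Subgroup X} (hS : IsPGroup p S) {s : X} (hs : s ∈ S) :
    ∃ k : ℕ, orderOf s = p ^ k := by
  obtain ⟨k, hk⟩ := hS ⟨s, hs⟩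
  obtain ⟨j, -, hj⟩ := (Nat.dvd_prime_pow Fact.out).1
    (orderOf_dvd_of_pow_eq_one (x := s) (n := p ^ k) (congrArg Subtype.val hk))
  exact ⟨j, hj⟩

theorem not_mem_center {A : Type*} [Group A] {f : X →* A} (hf : Function.Surjective f)
    (hcA : center A = ⊥) {x : X} (hx : f x ≠ 1) : x ∉ center X := by
  intro hc
  apply hx
  rw [← Subgroup.mem_bot, ← hcA, Subgroup.mem_center_iff]
  intro a
  obtain ⟨z, rfl⟩ := hf a
  rw [← map_mul, ← map_mul, Subgroup.mem_center_iff.1 hc z]

theorem mem_commutator_ker [Finite X] {A : Type*} [Group A] {p : ℕ} {f : X →* A} {D : Seed A p}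
    {S N P0 : Subgroup X} {s : X} (hS : IsPGroup p S) (hs : s ∈ S) (hfs : f s = D.σ)
    (hNS : N ≤ normalizer (S : Set X)) (hNL : N ≤ (D.H ⊔ zpowers D.σ).comap f)
    (hP0 : ∀ Q : Subgroup X, IsPGroup p Q → Q ≤ f.ker → Q ≤ P0) {k : X} (hk : k ∈ N) :
    s⁻¹ * k⁻¹ * s * k ∈ P0 := by
  have hσ : D.H ⊔ zpowers D.σ ≤ centralizer ({D.σ} : Set A) := by
    refine sup_le (fun h hh => ?_) ((zpowers_le).2 ?_)
    · rw [mem_centralizer_iff]
      intro y hy; rw [Set.mem_singleton_iff] at hy; rw [hy]; exact (D.comm h hh).symm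
    · rw [mem_centralizer_iff]
      intro y hy; rw [Set.mem_singleton_iff] at hy; rw [hy]
  have hc : D.σ * f k = f k * D.σ := mem_centralizer_iff.1 (hσ (hNL hk)) D.σ rfl
  refine hP0 (S ⊓ f.ker) (hS.to_le inf_le_left) inf_le_right ⟨?_, ?_⟩
  · have h := (mem_normalizer_iff''.1 (hNS hk) s).1 hs
    rw [show s⁻¹ * k⁻¹ * s * k = s⁻¹ * (k⁻¹ * s * k) by group]
    exact S.mul_mem (S.inv_mem hs) h
  · show f (s⁻¹ * k⁻¹ * s * k) = 1
    simp only [map_mul, map_inv, hfs, mul_assoc, hc]
    group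

/-- The largest `p`-subgroup of a nilpotent normal subgroup. -/
theorem exists_p_part [Finite X] {p : ℕ} [Fact p.Prime] (Y : Subgroup X) [Y.Normal]
    (hY : Group.IsNilpotent Y) :
    ∃ P0 : Subgroup X, P0.Normal ∧ IsPGroup p P0 ∧ P0 ≤ Y ∧
      ∀ Q : Subgroup X, IsPGroup p Q → Q ≤ Y → Q ≤ P0 := by
  obtain ⟨P⟩ := (inferInstance : Nonempty (Sylow p Y))
  have hN : P.1.Normal :=
    ((Group.isNilpotent_of_finite_tfae (G := Y)).out 0 3 rfl rfl).1 hY p inferInstance P
  haveI := Sylow.characteristic_of_normal P hN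
  refine ⟨P.1.map Y.subtype, ConjAct.normal_of_characteristic_of_normal, P.2.map Y.subtype,
    Subgroup.map_subtype_le _, fun Q hQ hQY => ?_⟩
  obtain ⟨R, hR⟩ := (hQ.comap_subtype : IsPGroup p (Q.subgroupOf Y)).exists_le_sylow
  have hPR : R = P := by
    haveI := Sylow.unique_of_normal P hN
    exact Subsingleton.elim _ _
  rw [← inf_of_le_left hQY, ← Subgroup.subgroupOf_map_subtype]
  exact map_mono (hPR ▸ hR)

variable [Finite X] {A : Type*} [Group A] {p : ℕ} [Fact p.Prime] {f : X →* A}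
  (hf : Function.Surjective f) (hcA : center A = ⊥) (D : Seed A p)

include hf hcA D in
/-- The `p`-part of the kernel is central. -/
theorem exists_of_central {P0 : Subgroup X} (hP0 : ∀ Q : Subgroup X, IsPGroup p Q → Q ≤ f.ker → Q ≤ P0)
    (hc : P0 ≤ center X) :
    ∃ x : X, x ∉ center X ∧ (∃ k : ℕ, orderOf x = p ^ k) ∧
      ¬ Group.IsSolvable (centralizer ({x} : Set X)) := by
  obtain ⟨S, N, s, hS, hs, hfs, -, hNS, hNL, hMN, -, -⟩ := exists_normalizer hf D
  exact ⟨s, not_mem_center hf hcA (hfs ▸ D.ne), orderOf_eq_pow hS hs,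
    not_isSolvable_centralizer (fun k hk => hc (mem_commutator_ker hS hs hfs hNS hNL hP0 hk))
      (not_isSolvable_of_le_map f (le_sup_left.trans hMN) D.nsH)⟩

include hf hcA D in
/-- The order of the non-solvable subgroup is prime to `p`. -/
theorem exists_of_coprime {P0 : Subgroup X} [P0.Normal] (hp0 : IsPGroup p P0) (hle : P0 ≤ f.ker)
    (hP0 : ∀ Q : Subgroup X, IsPGroup p Q → Q ≤ f.ker → Q ≤ P0) (hcop : Nat.Coprime p (Nat.card D.H))
    [Finite A] :
    ∃ x : X, x ∉ center X ∧ (∃ k : ℕ, orderOf x = p ^ k) ∧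
      ¬ Group.IsSolvable (centralizer ({x} : Set X)) := by
  obtain ⟨S, N, s, hS, hs, hfs, hSN, hNS, hNL, hMN, hfS, hST⟩ := exists_normalizer hf D
  let T : Subgroup X := (zpowers D.σ).comap f
  have hST' : S ≤ T ⊓ N := le_inf (fun g hg => hfS g hg) hSN
  have h1 : Nat.Coprime p (S.relIndex (T ⊓ N)) :=
    hST.coprime_dvd_right ⟨_, (Subgroup.relIndex_mul_relIndex _ _ _ hST' inf_le_left).symm⟩
  have hσN : zpowers D.σ ≤ N.map f := le_sup_right.trans hMN
  have h2 : Nat.Coprime p (T.relIndex N) := by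
    refine hcop.coprime_dvd_right ?_
    rw [show T.relIndex N = (zpowers D.σ).relIndex (N.map f) from Subgroup.relIndex_comap _ _ _]
    have hcard : Nat.card (zpowers D.σ) * (zpowers D.σ).relIndex (N.map f) = Nat.card (N.map f) := by
      rw [← Subgroup.relIndex_bot_left, ← Subgroup.relIndex_bot_left,
        Subgroup.relIndex_mul_relIndex _ _ _ bot_le hσN]
    let g : D.H × zpowers D.σ →* A := D.H.subtype.noncommCoprod (zpowers D.σ).subtype (by
      rintro ⟨h, hh⟩ ⟨z, hz⟩
      obtain ⟨k, rfl⟩ := mem_zpowers_iff.1 hz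
      exact Commute.zpow_right (D.comm h hh) k)
    have hg : N.map f ≤ g.range := by
      refine (map_mono hNL).trans ((Subgroup.map_comap_le _ _).trans (sup_le ?_ ?_))
      · exact fun a ha => ⟨(⟨a, ha⟩, 1), by simp [g]⟩
      · exact fun a ha => ⟨(1, ⟨a, ha⟩), by simp [g]⟩
    have hd := (Subgroup.card_dvd_of_le hg).trans (Subgroup.card_range_dvd g)
    rw [← hcard, Nat.card_prod, mul_comm (Nat.card D.H)] at hd
    exact (Nat.mul_dvd_mul_iff_left Nat.card_pos).1 hd
  have h3 : Nat.Coprime p (S.relIndex N) := by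
    rw [← Subgroup.relIndex_mul_relIndex _ _ _ hST' inf_le_right, Subgroup.inf_relIndex_right]
    exact Nat.Coprime.mul_right h1 h2
  haveI : (S.subgroupOf N).Normal := normal_subgroupOf_of_le_normalizer hNS
  have hSp : IsPGroup p (S.subgroupOf N) := hS.comap_subtype
  obtain ⟨e, he⟩ := IsPGroup.iff_card.1 hSp
  obtain ⟨C, hC⟩ := exists_right_complement'_of_coprime (N := S.subgroupOf N)
    (by rw [he]; exact h3.pow_left e)
  let C' : Subgroup X := C.map N.subtype
  have hCc : Nat.card C' = S.relIndex N := by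
    rw [Subgroup.card_map_of_injective N.subtype_injective]
    exact hC.symm.index_eq_card.symm
  have hNns := not_isSolvable_of_le_map f (le_sup_left.trans hMN) D.nsH
  have hCns : ¬ Group.IsSolvable C := by
    intro hs'
    haveI := hs'
    haveI := hSp.isNilpotent
    haveI : Group.IsSolvable (S.subgroupOf N) := inferInstance
    have : Group.IsSolvable (N ⧸ S.subgroupOf N) := by
      refine Group.isSolvable_of_surjective (f := (QuotientGroup.mk' (S.subgroupOf N)).comp C.subtype) ?_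
      intro q
      obtain ⟨x, rfl⟩ := QuotientGroup.mk'_surjective _ q
      have hx : x ∈ S.subgroupOf N ⊔ C := by rw [hC.sup_eq_top]; trivial
      obtain ⟨u, hu, c, hc, rfl⟩ := Subgroup.mem_sup_of_normal_left.1 hx
      exact ⟨⟨c, hc⟩, by simp [(QuotientGroup.eq_one_iff u).2 hu]⟩
    exact hNns ((Group.isSolvable_iff_subgroup_quotient (S.subgroupOf N)).2 ⟨inferInstance, this⟩)
  have hC'N : C' ≤ N := Subgroup.map_subtype_le _
  obtain ⟨e0, he0⟩ := IsPGroup.iff_card.1 hp0
  obtain ⟨n, hn, hcent⟩ := Coprime.exists_fixed_mem_leftCoset (A := C') (N := P0) (k := s)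
    (normalizer_eq_top (H := P0) ▸ le_top) (by rw [hCc, he0]; exact h3.symm.pow_right e0)
    (Or.inr (by haveI := hp0.isNilpotent; infer_instance)) (fun a ha => by
      have := mem_commutator_ker hS hs hfs hNS hNL hP0 (N.inv_mem (hC'N ha))
      simpa [mul_assoc] using this)
  have hfx : f (s * n) = D.σ := by rw [map_mul, hfs, show f n = 1 from hle hn, mul_one]
  refine ⟨s * n, not_mem_center hf hcA (hfx ▸ D.ne),
    orderOf_eq_pow (hS.to_sup_of_normal_right hp0) (mul_mem_sup hs hn), ?_⟩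
  intro hsol
  haveI := hsol
  have hle' : C' ≤ centralizer ({s * n} : Set X) := by
    intro a ha
    rw [mem_centralizer_iff]
    intro y hy
    rw [Set.mem_singleton_iff] at hy
    rw [hy]
    exact (mem_centralizer_iff.1 hcent a ha).symm
  haveI : Group.IsSolvable C' :=
    Group.isSolvable_of_isSolvable_injective (f := inclusion hle') (inclusion_injective hle')
  exact hCns (Group.isSolvable_of_isSolvable_injective
    (f := (C.equivMapOfInjective N.subtype N.subtype_injective).toMonoidHom) (MulEquiv.injective _))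

omit D in
include hf in
/-- The `p`-part of the kernel is not central. -/
theorem exists_of_module {P0 : Subgroup X} [P0.Normal] (hp0 : IsPGroup p P0) (hle : P0 ≤ f.ker)
    (hY : Group.IsNilpotent f.ker) (hnc : ¬ P0 ≤ center X)
    (hfix : ∀ E : Subgroup (X ⧸ (P0 ⊓ center X)), HasFixed A p E) :
    ∃ x : X, x ∉ center X ∧ (∃ k : ℕ, orderOf x = p ^ k) ∧
      ¬ Group.IsSolvable (centralizer ({x} : Set X)) := by
  classical
  let Z0 : Subgroup X := P0 ⊓ center X
  let π : X →* X ⧸ Z0 := QuotientGroup.mk' Z0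
  have hπ : Function.Surjective π := QuotientGroup.mk'_surjective Z0
  let Yb : Subgroup (X ⧸ Z0) := f.ker.map π
  let Pb : Subgroup (X ⧸ Z0) := P0.map π
  haveI : Yb.Normal := Subgroup.Normal.map inferInstance π hπ
  haveI : Pb.Normal := Subgroup.Normal.map inferInstance π hπ
  have hPY : Pb ≤ Yb := map_mono hle
  haveI := hY
  haveI : Group.IsNilpotent Yb :=
    Group.nilpotent_of_surjective (π.subgroupMap f.ker) (π.subgroupMap_surjective f.ker)
  have hPne : Pb.subgroupOf Yb ≠ ⊥ := by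
    intro h
    apply hnc
    intro g hg
    have hm : (⟨π g, hPY (mem_map_of_mem π hg)⟩ : Yb) ∈ Pb.subgroupOf Yb := mem_map_of_mem π hg
    rw [h, Subgroup.mem_bot] at hm
    exact ((QuotientGroup.eq_one_iff g).1 (congrArg Subtype.val hm)).2
  obtain ⟨z, hz, hz1⟩ :=
    (Subgroup.bot_or_exists_ne_one _).resolve_left (Core.inf_center_ne_bot (N := Pb.subgroupOf Yb) hPne)
  let D0 : Subgroup (X ⧸ Z0) := Pb ⊓ centralizer (Yb : Set (X ⧸ Z0))
  have hzD : (z : X ⧸ Z0) ∈ D0 := by
    refine ⟨hz.1, mem_centralizer_iff.2 fun y hy => ?_⟩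
    exact congrArg Subtype.val (Subgroup.mem_center_iff.1 hz.2 ⟨y, hy⟩)
  have hD0 : IsPGroup p D0 := (hp0.map π).to_le inf_le_left
  haveI : Nontrivial D0 :=
    ⟨⟨⟨z.1, hzD⟩, 1, fun h => hz1 (Subtype.ext (congrArg (fun a : D0 => (a : X ⧸ Z0)) h))⟩⟩
  obtain ⟨w, hw⟩ := exists_prime_orderOf_dvd_card' (G := D0) p (by
    obtain ⟨n, hn, hc⟩ := hD0.nontrivial_iff_card.1 inferInstance
    exact hc ▸ dvd_pow_self p hn.ne')
  have hcomm : ∀ a b : X ⧸ Z0, a ∈ D0 → b ∈ D0 → a * b = b * a := fun a b ha hb =>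
    (mem_centralizer_iff.1 hb.2 a (hPY ha.1))
  let E : Subgroup (X ⧸ Z0) :=
    { carrier := {a | a ∈ D0 ∧ a ^ p = 1}
      one_mem' := ⟨D0.one_mem, one_pow p⟩
      mul_mem' := fun {a b} ha hb => ⟨D0.mul_mem ha.1 hb.1, by
        rw [(show Commute a b from hcomm a b ha.1 hb.1).mul_pow, ha.2, hb.2, one_mul]⟩
      inv_mem' := fun {a} ha => ⟨D0.inv_mem ha.1, by rw [inv_pow, ha.2, inv_one]⟩ }
  haveI : E.Normal := by
    constructor
    intro a ha g
    refine ⟨?_, by rw [conj_pow, ha.2, mul_one, mul_inv_cancel]⟩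
    have hD0n : D0.Normal := inferInstance
    exact hD0n.conj_mem a ha.1 g
  let ρ : X →* MulAut E := (MulAut.conjNormal (H := E)).comp π
  have hker : f.ker ≤ ρ.ker := by
    intro y hy
    rw [MonoidHom.mem_ker]
    refine MulEquiv.ext fun e => Subtype.ext ?_
    show π y * (e : X ⧸ Z0) * (π y)⁻¹ = e
    rw [mem_centralizer_iff.1 e.2.1.2 (π y) (mem_map_of_mem π hy), mul_inv_cancel_right]
  let act : A →* MulAut E := f.liftOfRightInverse (Function.surjInv hf) (Function.rightInverse_surjInv hf) ⟨ρ, hker⟩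
  have hact : ∀ x, act (f x) = ρ x := fun x =>
    MonoidHom.liftOfRightInverse_comp_apply f _ _ _ x
  obtain ⟨H, e, hH, he, hfixed⟩ := hfix E act
    (fun a b => Subtype.ext (hcomm _ _ a.2.1 b.2.1))
    (fun a => Subtype.ext a.2.2)
    ⟨⟨w, w.2, by
        rw [← Subgroup.coe_pow, ← hw, pow_orderOf_eq_one, Subgroup.coe_one]⟩,
      fun h => (Fact.out : p.Prime).one_lt.ne' (by
        rw [← hw, orderOf_eq_one_iff]
        exact Subtype.ext (by simpa using congrArg Subtype.val h))⟩
  obtain ⟨x, hx, hxe⟩ := e.2.1.1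
  refine ⟨x, fun hc => he (Subtype.ext ?_), orderOf_eq_pow hp0 hx,
    not_isSolvable_centralizer (K := H.comap f) (fun k hk => ?_)
      (not_isSolvable_of_le_map f (le_of_eq (Subgroup.map_comap_eq_self_of_surjective hf H).symm) hH)⟩
  · rw [← hxe]
    exact (QuotientGroup.eq_one_iff x).2 ⟨hx, hc⟩
  · have h := congrArg Subtype.val (hfixed (f k) hk)
    rw [hact] at h
    have h' : π k * π x * (π k)⁻¹ = π x := by rw [hxe]; exact h
    have h1 : π (x⁻¹ * k⁻¹ * x * k) = 1 := by
      have h2 : π k * π x = π x * π k := mul_inv_eq_iff_eq_mul.1 h'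
      simp only [map_mul, map_inv, mul_assoc]
      rw [← h2]
      group
    exact ((QuotientGroup.eq_one_iff _).1 h1).2

end Cfsg.Agent.AltCent
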